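import Mathlib

/-!
# Symmetric multiplicative two-cocycles of `G_a` with values in `G_m`: basic formalism
-/

set_option autoImplicit false
universe u
open MvPolynomial

namespace Groth.Agent.GaGm

variable {R : Type u} [CommRing R]

/-- A normalised symmetric invertible two-cocycle. -/
structure IsCoc (h : MvPolynomial (Fin 2) R) : Prop where
  unit : IsUnit h
  norm : aeval ![(X 0 : MvPolynomial (Fin 2) R), 0] h = 1
  symm : aeval ![(X 1 : MvPolynomial (Fin 2) R), X 0] h = h
  coc : aeval ![(X 1 : MvPolynomial (Fin 3) R), X 2] h * aeval ![X 0, X 1 + X 2] h =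
    aeval ![X 0 + X 1, X 2] h * aeval ![X 0, X 1] h

/-- A coboundary. -/
def IsCob (h : MvPolynomial (Fin 2) R) : Prop :=
  ∃ f : Polynomial R, IsUnit f ∧ Polynomial.aeval (X 0 + X 1 : MvPolynomial (Fin 2) R) f =
    Polynomial.aeval (X 0 : MvPolynomial (Fin 2) R) f *
      Polynomial.aeval (X 1 : MvPolynomial (Fin 2) R) f * h

/-- The coboundary of a polynomial. -/
noncomputable def dlt (f : Polynomial R) : MvPolynomial (Fin 2) R :=
  Polynomial.aeval (X 0 + X 1 : MvPolynomial (Fin 2) R) f *
    Ring.inverse (Polynomial.aeval (X 0 : MvPolynomial (Fin 2) R) f *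
      Polynomial.aeval (X 1 : MvPolynomial (Fin 2) R) f)

lemma dlt_spec {f : Polynomial R} (hf : IsUnit f) :
    Polynomial.aeval (X 0 + X 1 : MvPolynomial (Fin 2) R) f =
      Polynomial.aeval (X 0 : MvPolynomial (Fin 2) R) f *
        Polynomial.aeval (X 1 : MvPolynomial (Fin 2) R) f * dlt f := by
  rw [dlt, mul_left_comm, Ring.mul_inverse_cancel _ ((hf.map _).mul (hf.map _)), mul_one]

lemma isCob_one : IsCob (1 : MvPolynomial (Fin 2) R) := ⟨1, isUnit_one, by simp⟩

lemma isCob_dlt {f : Polynomial R} (hf : IsUnit f) : IsCob (dlt f) := ⟨f, hf, dlt_spec hf⟩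

lemma IsCob.mul {h k : MvPolynomial (Fin 2) R} (hh : IsCob h) (hk : IsCob k) : IsCob (h * k) := by
  obtain ⟨f, hf, ef⟩ := hh
  obtain ⟨g, hg, eg⟩ := hk
  exact ⟨f * g, hf.mul hg, by simp only [map_mul, ef, eg]; ring⟩

/-- The coboundary of a normalised unit is a cocycle. -/
lemma isCoc_dlt {f : Polynomial R} (hf : IsUnit f) (h0 : f.coeff 0 = 1) : IsCoc (dlt f) := by
  have e := dlt_spec hf
  have e' : ∀ {n : ℕ} (a b : MvPolynomial (Fin n) R), Polynomial.aeval (a + b) f =
      Polynomial.aeval a f * Polynomial.aeval b f * aeval ![a, b] (dlt f) := fun a b ↦ by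
    have := congrArg (aeval ![a, b]) e
    simpa [← Polynomial.aeval_algHom_apply] using this
  have hz : ∀ {n : ℕ}, Polynomial.aeval (0 : MvPolynomial (Fin n) R) f = 1 := fun {n} ↦ by
    simp [Polynomial.aeval_def, Polynomial.eval₂_at_zero, h0]
  refine ⟨?_, ?_, ?_, ?_⟩
  · exact (hf.map _).mul (((hf.map _).mul (hf.map _)).ringInverse)
  · have := e' (X 0 : MvPolynomial (Fin 2) R) 0
    rw [add_zero, hz, mul_one] at this
    exact (hf.map _).mul_left_cancel (this.symm.trans (mul_one _).symm)
  · have h₁ := e' (X 1 : MvPolynomial (Fin 2) R) (X 0)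
    rw [add_comm (X 1) (X 0), e, mul_comm (Polynomial.aeval (X 1) f)] at h₁
    exact (((hf.map _).mul (hf.map _)).mul_left_cancel h₁).symm
  · have h₁ := e' (X 1 : MvPolynomial (Fin 3) R) (X 2)
    have h₂ := e' (X 0 : MvPolynomial (Fin 3) R) (X 1 + X 2)
    have h₃ := e' (X 0 : MvPolynomial (Fin 3) R) (X 1)
    have h₄ := e' (X 0 + X 1 : MvPolynomial (Fin 3) R) (X 2)
    rw [h₁, ← add_assoc, h₄, h₃] at h₂
    refine (((hf.map (Polynomial.aeval (X 0 : MvPolynomial (Fin 3) R))).mul
      (hf.map (Polynomial.aeval (X 1 : MvPolynomial (Fin 3) R)))).mul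
      (hf.map (Polynomial.aeval (X 2 : MvPolynomial (Fin 3) R)))).mul_left_cancel ?_
    linear_combination -h₂

/-- Cocycles can be cancelled. -/
lemma IsCoc.of_mul {g k : MvPolynomial (Fin 2) R} (hg : IsCoc g) (h : IsCoc (g * k)) :
    IsCoc k := by
  refine ⟨isUnit_of_mul_isUnit_right h.unit, ?_, ?_, ?_⟩
  · have := h.norm
    rwa [map_mul, hg.norm, one_mul] at this
  · have := h.symm
    rw [map_mul, hg.symm] at this
    exact hg.unit.mul_left_cancel this
  · have := h.coc
    simp only [map_mul] at this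
    refine ((hg.unit.map (aeval ![(X 1 : MvPolynomial (Fin 3) R), X 2])).mul
      (hg.unit.map (aeval ![(X 0 : MvPolynomial (Fin 3) R), X 1 + X 2]))).mul_left_cancel ?_
    calc _ = aeval ![(X 1 : MvPolynomial (Fin 3) R), X 2] g *
          aeval ![(X 1 : MvPolynomial (Fin 3) R), X 2] k *
          (aeval ![X 0, X 1 + X 2] g * aeval ![X 0, X 1 + X 2] k) := by ring
      _ = _ := this
      _ = _ := by rw [hg.coc]; ring

/-- The exponent `(i, j)`. -/
noncomputable def ix (i j : ℕ) : Fin 2 →₀ ℕ := Finsupp.single 0 i + Finsupp.single 1 j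

@[simp] lemma ix_zero (i j : ℕ) : ix i j 0 = i := by simp [ix]
@[simp] lemma ix_one (i j : ℕ) : ix i j 1 = j := by simp [ix]

lemma ix_eq (m : Fin 2 →₀ ℕ) : ix (m 0) (m 1) = m := by
  ext a; fin_cases a <;> simp

lemma ix_inj {i j i' j' : ℕ} : ix i j = ix i' j' ↔ i = i' ∧ j = j' :=
  ⟨fun h ↦ ⟨by simpa using congrArg (· 0) h, by simpa using congrArg (· 1) h⟩,
    fun h ↦ by rw [h.1, h.2]⟩

lemma X_pow_mul_X_pow (i j : ℕ) :
    (X 0 : MvPolynomial (Fin 2) R) ^ i * X 1 ^ j = monomial (ix i j) 1 := by
  rw [X_pow_eq_monomial, X_pow_eq_monomial, monomial_mul, one_mul, ix]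

/-- Coefficients of `φ(X + Y)`. -/
lemma coeff_aeval_add (φ : Polynomial R) (i j : ℕ) :
    coeff (ix i j) (Polynomial.aeval (X 0 + X 1 : MvPolynomial (Fin 2) R) φ) =
      (i + j).choose i * φ.coeff (i + j) := by
  induction φ using Polynomial.induction_on' with
  | add p q hp hq => simp [hp, hq, mul_add]
  | monomial n a =>
    rw [Polynomial.aeval_monomial, MvPolynomial.algebraMap_eq, coeff_C_mul, add_pow, coeff_sum]
    have : ∀ m, coeff (ix i j) ((X 0 : MvPolynomial (Fin 2) R) ^ m * X 1 ^ (n - m) * ((n.choose m : ℕ) : MvPolynomial (Fin 2) R))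
        = if m = i ∧ n - m = j then (n.choose m : R) else 0 := fun m ↦ by
      rw [X_pow_mul_X_pow, ← map_natCast (C : R →+* MvPolynomial (Fin 2) R), mul_comm, C_mul_monomial,
        coeff_monomial]
      simp [ix_inj]
    simp only [this, Polynomial.coeff_monomial]
    by_cases hn : n = i + j
    · subst hn
      rw [Finset.sum_eq_single i]
      · simp [mul_comm]
      · intro m _ hm; simp [hm]
      · intro hi; simp only [Finset.mem_range] at hi; omega
    · rw [if_neg hn, mul_zero, Finset.sum_eq_zero, mul_zero]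
      intro m hm
      rw [Finset.mem_range] at hm
      rw [if_neg]
      omega

/-- Coefficients of `φ(X) ψ(Y)`. -/
lemma coeff_aeval_mul (φ ψ : Polynomial R) (i j : ℕ) :
    coeff (ix i j) (Polynomial.aeval (X 0 : MvPolynomial (Fin 2) R) φ *
      Polynomial.aeval (X 1 : MvPolynomial (Fin 2) R) ψ) = φ.coeff i * ψ.coeff j := by
  induction φ using Polynomial.induction_on' with
  | add p q hp hq => simp [hp, hq, add_mul]
  | monomial n a =>
    induction ψ using Polynomial.induction_on' with
    | add p q hp hq => simp_all [mul_add]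
    | monomial m b =>
      rw [Polynomial.aeval_monomial, Polynomial.aeval_monomial, mul_mul_mul_comm, ← map_mul,
        X_pow_mul_X_pow, MvPolynomial.algebraMap_eq, C_mul_monomial, coeff_monomial]
      simp only [ix_inj, Polynomial.coeff_monomial]
      by_cases hn : n = i <;> by_cases hm : m = j <;> simp [hn, hm]

/-- Coefficients of `φ(X)`. -/
lemma coeff_aeval_left (φ : Polynomial R) (i j : ℕ) :
    coeff (ix i j) (Polynomial.aeval (X 0 : MvPolynomial (Fin 2) R) φ) =
      if j = 0 then φ.coeff i else 0 := by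
  have := coeff_aeval_mul φ 1 i j
  simp only [map_one, mul_one, Polynomial.coeff_one] at this
  rw [this]; split <;> simp

/-- Coefficients of `φ(Y)`. -/
lemma coeff_aeval_right (φ : Polynomial R) (i j : ℕ) :
    coeff (ix i j) (Polynomial.aeval (X 1 : MvPolynomial (Fin 2) R) φ) =
      if i = 0 then φ.coeff j else 0 := by
  have := coeff_aeval_mul 1 φ i j
  simp only [map_one, one_mul, Polynomial.coeff_one] at this
  rw [this]; split <;> simp

/-- Chain rule. -/
lemma pderiv_aeval {n m : ℕ} (l : Fin n → MvPolynomial (Fin m) R) (i : Fin m)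
    (q : MvPolynomial (Fin n) R) :
    pderiv i (aeval l q) = ∑ j, pderiv i (l j) * aeval l (pderiv j q) := by
  induction q using MvPolynomial.induction_on with
  | C a => simp
  | add p q hp hq => simp only [map_add, hp, hq, mul_add, Finset.sum_add_distrib]
  | mul_X p k hp =>
    simp only [map_mul, aeval_X, Derivation.leibniz, smul_eq_mul, hp, pderiv_X, map_add,
      Finset.mul_sum, mul_add, Finset.sum_add_distrib]
    have h₁ : ∑ j, pderiv i (l j) * (aeval l p * aeval l ((Pi.single (M := fun _ : Fin n ↦ MvPolynomial (Fin n) R) j 1) k))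
        = aeval l p * pderiv i (l k) := by
      rw [Finset.sum_eq_single k]
      · rw [Pi.single_eq_same, map_one]; ring
      · intro b _ hb; rw [Pi.single_eq_of_ne hb.symm, map_zero, mul_zero, mul_zero]
      · simp
    have h₂ : ∀ j, pderiv i (l j) * (l k * aeval l (pderiv j p)) =
        l k * (pderiv i (l j) * aeval l (pderiv j p)) := fun j ↦ by ring
    rw [h₁, Finset.sum_congr rfl fun j _ ↦ h₂ j, add_comm]

/-- Substitution commutes with change of coefficients. -/
lemma map_aeval' {S : Type u} [CommRing S] (ρ : R →+* S) {n m : ℕ}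
    (l : Fin n → MvPolynomial (Fin m) R) (q : MvPolynomial (Fin n) R) :
    MvPolynomial.map ρ (aeval l q) = aeval (fun i ↦ MvPolynomial.map ρ (l i)) (MvPolynomial.map ρ q) := by
  induction q using MvPolynomial.induction_on with
  | C a => simp
  | add p q hp hq => simp only [map_add, hp, hq]
  | mul_X p k hp => simp only [map_mul, aeval_X, MvPolynomial.map_X, hp]

/-- Substitution commutes with change of coefficients. -/
lemma map_aeval_poly {S : Type u} [CommRing S] (ρ : R →+* S) {m : ℕ}
    (t : MvPolynomial (Fin m) R) (f : Polynomial R) :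
    MvPolynomial.map ρ (Polynomial.aeval t f) =
      Polynomial.aeval (MvPolynomial.map ρ t) (f.map ρ) := by
  induction f using Polynomial.induction_on' with
  | add p q hp hq => simp [hp, hq]
  | monomial k a => simp [Polynomial.aeval_monomial]

/-- Coboundaries push forward. -/
lemma IsCob.map {S : Type u} [CommRing S] (ρ : R →+* S) {h : MvPolynomial (Fin 2) R}
    (hh : IsCob h) : IsCob (MvPolynomial.map ρ h) := by
  obtain ⟨f, hf, e⟩ := hh
  refine ⟨f.map ρ, hf.map (Polynomial.mapRingHom ρ), ?_⟩
  simpa [map_aeval_poly] using congrArg (MvPolynomial.map ρ) e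

/-- Cocycles push forward. -/
lemma IsCoc.map {S : Type u} [CommRing S] (ρ : R →+* S) {h : MvPolynomial (Fin 2) R}
    (hh : IsCoc h) : IsCoc (MvPolynomial.map ρ h) := by
  have e : ∀ {m : ℕ} (a b : MvPolynomial (Fin m) R), MvPolynomial.map ρ (aeval ![a, b] h) =
      aeval ![MvPolynomial.map ρ a, MvPolynomial.map ρ b] (MvPolynomial.map ρ h) := fun a b ↦ by
    rw [map_aeval']
    congr 2
    funext i; fin_cases i <;> rfl
  refine ⟨hh.unit.map _, ?_, ?_, ?_⟩
  · have := congrArg (MvPolynomial.map ρ) hh.norm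
    rw [e, MvPolynomial.map_X, map_zero, map_one] at this
    exact this
  · have := congrArg (MvPolynomial.map ρ) hh.symm
    rw [e, MvPolynomial.map_X, MvPolynomial.map_X] at this
    exact this
  · have := congrArg (MvPolynomial.map ρ) hh.coc
    simp only [map_mul] at this
    simp only [e, map_add, MvPolynomial.map_X] at this
    exact this

end Groth.Agent.GaGm
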