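import Groth.Agent.GaGm.Basic

/-!
# The coboundary of a scaled truncated exponential
-/

set_option autoImplicit false
universe u
open MvPolynomial
open scoped Nat

namespace Groth.Agent.GaGm

variable (p : ℕ) [Fact p.Prime]

/-- The truncated exponential over `ZMod p`. -/
noncomputable def texp : Polynomial (ZMod p) :=
  ∑ i ∈ Finset.range p, Polynomial.monomial i ((i ! : ℕ) : ZMod p)⁻¹

lemma coeff_texp (n : ℕ) :
    (texp p).coeff n = if n < p then ((n ! : ℕ) : ZMod p)⁻¹ else 0 := by
  simp [texp, Polynomial.finsetSum_coeff, Polynomial.coeff_monomial]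

/-- The defect of additivity of the truncated exponential. -/
noncomputable def texpD : MvPolynomial (Fin 2) (ZMod p) :=
  Polynomial.aeval (X 0 + X 1 : MvPolynomial (Fin 2) (ZMod p)) (texp p) -
    Polynomial.aeval (X 0 : MvPolynomial (Fin 2) (ZMod p)) (texp p) *
      Polynomial.aeval (X 1 : MvPolynomial (Fin 2) (ZMod p)) (texp p)

lemma factorial_ne_zero {n : ℕ} (hn : n < p) : ((n ! : ℕ) : ZMod p) ≠ 0 := by
  rw [Ne, ZMod.natCast_eq_zero_iff]
  exact fun h ↦ not_lt.mpr ((Fact.out : p.Prime).dvd_factorial.mp h) hn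

lemma coeff_texpD_low (i j : ℕ) (h : i + j < p) : coeff (ix i j) (texpD p) = 0 := by
  rw [texpD, coeff_sub, coeff_aeval_add, coeff_aeval_mul, coeff_texp, coeff_texp, coeff_texp,
    if_pos h, if_pos (by omega), if_pos (by omega), sub_eq_zero]
  have hi := factorial_ne_zero p (n := i) (by omega)
  have hj := factorial_ne_zero p (n := j) (by omega)
  have hij := factorial_ne_zero p h
  have e : (((i + j).choose i : ℕ) : ZMod p) * (i ! : ℕ) * (j ! : ℕ) = ((i + j)! : ℕ) := by
    rw [← Nat.cast_mul, ← Nat.cast_mul, Nat.choose_symm_add, Nat.add_choose_mul_factorial_mul_factorial]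
  field_simp
  linear_combination e

lemma coeff_texpD_one : coeff (ix 1 (p - 1)) (texpD p) = 1 := by
  have hp := (Fact.out : p.Prime).two_le
  rw [texpD, coeff_sub, coeff_aeval_add, coeff_aeval_mul, coeff_texp, coeff_texp, coeff_texp,
    if_neg (by omega), if_pos (by omega), if_pos (by omega), ZMod.wilsons_lemma]
  simp [inv_neg]

variable {p} {R : Type u} [CommRing R] [CharP R p]

/-- Scaling of the variables by `b`. -/
noncomputable def scale (b : R) : MvPolynomial (Fin 2) (ZMod p) →+* MvPolynomial (Fin 2) R :=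
  eval₂Hom ((C : R →+* MvPolynomial (Fin 2) R).comp (ZMod.castHom dvd_rfl R)) fun i ↦ C b * X i

lemma coeff_scale (b : R) (q : MvPolynomial (Fin 2) (ZMod p)) (i j : ℕ) :
    coeff (ix i j) (scale b q) = b ^ (i + j) * ZMod.castHom dvd_rfl R (coeff (ix i j) q) := by
  induction q using MvPolynomial.induction_on' with
  | add r s hr hs => simp only [map_add, coeff_add, hr, hs, mul_add]
  | monomial m a =>
    rw [scale, eval₂Hom_monomial, ← ix_eq m, coeff_monomial,
      Finsupp.prod_fintype _ _ (fun _ ↦ pow_zero _), Fin.prod_univ_two]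
    simp only [ix_zero, ix_one, RingHom.comp_apply]
    rw [show (C b * X 0 : MvPolynomial (Fin 2) R) ^ m 0 * (C b * X 1) ^ m 1 =
      C (b ^ (m 0 + m 1)) * monomial (ix (m 0) (m 1)) 1 from by
        rw [← X_pow_mul_X_pow, map_pow, mul_pow, mul_pow]; ring]
    rw [C_mul_monomial, C_mul_monomial, coeff_monomial]
    simp only [ix_inj]
    split
    · rename_i h; rw [h.1, h.2]; ring
    · simp

/-- The scaled truncated exponential. -/
noncomputable def sexp (b : R) : Polynomial R :=
  ((texp p).map (ZMod.castHom dvd_rfl R)).comp (Polynomial.C b * Polynomial.X)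

lemma coeff_sexp (b : R) (n : ℕ) :
    (sexp (p := p) b).coeff n = ZMod.castHom dvd_rfl R ((texp p).coeff n) * b ^ n := by
  rw [sexp, Polynomial.comp_C_mul_X_coeff, Polynomial.coeff_map]

lemma scale_add (b : R) :
    scale b (Polynomial.aeval (X 0 + X 1 : MvPolynomial (Fin 2) (ZMod p)) (texp p)) =
      Polynomial.aeval (X 0 + X 1 : MvPolynomial (Fin 2) R) (sexp (p := p) b) := by
  ext m
  rw [← ix_eq m, coeff_scale, coeff_aeval_add, coeff_aeval_add, coeff_sexp, map_mul, map_natCast]
  ring

lemma scale_left (b : R) :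
    scale b (Polynomial.aeval (X 0 : MvPolynomial (Fin 2) (ZMod p)) (texp p)) =
      Polynomial.aeval (X 0 : MvPolynomial (Fin 2) R) (sexp (p := p) b) := by
  ext m
  rw [← ix_eq m, coeff_scale, coeff_aeval_left, coeff_aeval_left]
  split
  · rename_i h; rw [h, add_zero, coeff_sexp]; ring
  · simp

lemma scale_right (b : R) :
    scale b (Polynomial.aeval (X 1 : MvPolynomial (Fin 2) (ZMod p)) (texp p)) =
      Polynomial.aeval (X 1 : MvPolynomial (Fin 2) R) (sexp (p := p) b) := by
  ext m
  rw [← ix_eq m, coeff_scale, coeff_aeval_right, coeff_aeval_right]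
  split
  · rename_i h; rw [h, zero_add, coeff_sexp]; ring
  · simp

/-- The key property of the scaled truncated exponential. -/
lemma exists_kill {a b : R} (hb : b ^ p = a) (ha : a * a = 0) :
    ∃ (g : Polynomial R) (c : MvPolynomial (Fin 2) R), IsUnit g ∧ g.coeff 0 = 1 ∧ dlt g = 1 + c ∧
      (∀ i j, coeff (ix i j) c ∈ Ideal.span {a}) ∧
      (∀ i j, 2 * p ≤ i + j → coeff (ix i j) c = 0) ∧ coeff (ix 1 (p - 1)) c = a := by
  classical
  have hp := (Fact.out : p.Prime).two_le
  have hb2 : b ^ (2 * p) = 0 := by rw [mul_comm, pow_mul, hb, pow_two, ha]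
  have hbn : IsNilpotent b := ⟨2 * p, hb2⟩
  let E0 := Polynomial.aeval (X 0 : MvPolynomial (Fin 2) (ZMod p)) (texp p) *
    Polynomial.aeval (X 1 : MvPolynomial (Fin 2) (ZMod p)) (texp p)
  let W := ∑ k ∈ Finset.range (2 * p), (1 - E0) ^ k
  have hU0 : coeff 0 (1 - E0) = 0 := by
    have : coeff (ix 0 0) E0 = 1 := by
      rw [coeff_aeval_mul, coeff_texp]; simp [show 0 < p by omega]
    rw [show ix 0 0 = 0 by simp [ix]] at this
    rw [coeff_sub, this, coeff_zero_one, sub_self]
  have hUpow : scale b ((1 - E0) ^ (2 * p)) = 0 := by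
    have hmem : scale b (1 - E0) ∈ Ideal.span {(C b : MvPolynomial (Fin 2) R)} := by
      rw [show Ideal.span {(C b : MvPolynomial (Fin 2) R)} =
        (Ideal.span {b}).map (C : R →+* MvPolynomial (Fin 2) R) by
          rw [Ideal.map_span, Set.image_singleton], mem_map_C_iff]
      intro m
      rw [← ix_eq m, coeff_scale]
      by_cases h : m 0 + m 1 = 0
      · obtain ⟨h0, h1⟩ := Nat.add_eq_zero_iff.mp h
        rw [h0, h1, show ix 0 0 = 0 by simp [ix], hU0, map_zero, mul_zero]
        exact zero_mem _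
      · exact Ideal.mem_span_singleton.mpr (dvd_mul_of_dvd_left (dvd_pow_self b h) _)
    obtain ⟨t, ht⟩ := Ideal.mem_span_singleton.mp hmem
    rw [map_pow, ht, mul_pow, ← map_pow, hb2, map_zero, zero_mul]
  have hgeom : scale b E0 * scale b W = 1 := by
    have h := geom_sum_mul (1 - E0) (2 * p)
    have h' : E0 * W = 1 - (1 - E0) ^ (2 * p) := by linear_combination -h
    rw [← map_mul, h', map_sub, hUpow, map_one, sub_zero]
  have hg : IsUnit (sexp (p := p) b) := by
    refine Polynomial.isUnit_iff_coeff_isUnit_isNilpotent.mpr ⟨?_, fun n hn ↦ ?_⟩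
    · simp [coeff_sexp, coeff_texp, show 0 < p by omega]
    · rw [coeff_sexp]
      exact (hbn.pow_of_pos hn).smul (ZMod.castHom dvd_rfl R ((texp p).coeff n))
  have hg0 : (sexp (p := p) b).coeff 0 = 1 := by
    simp [coeff_sexp, coeff_texp, show 0 < p by omega]
  refine ⟨_, scale b (texpD p * W), hg, hg0, ?_, ?_, ?_, ?_⟩
  · have e := dlt_spec hg
    rw [← scale_add, ← scale_left, ← scale_right, ← map_mul] at e
    have hD : scale b (texpD p) = scale b (Polynomial.aeval (X 0 + X 1) (texp p)) - scale b E0 := by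
      rw [texpD, map_sub]
    rw [map_mul, hD, sub_mul, hgeom, add_sub_cancel, e,
      mul_comm (scale b E0) (dlt _), mul_assoc, hgeom, mul_one]
  all_goals
    have key : ∀ i j, i + j < p → coeff (ix i j) (texpD p * W) = 0 := fun i j h ↦ by
      rw [coeff_mul]
      refine Finset.sum_eq_zero fun x hx ↦ ?_
      rw [Finset.HasAntidiagonal.mem_antidiagonal] at hx
      have h0 := congrArg (· 0) hx
      have h1 := congrArg (· 1) hx
      simp only [Finsupp.add_apply, ix_zero, ix_one] at h0 h1
      rw [← ix_eq x.1, coeff_texpD_low p _ _ (by omega), zero_mul]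
  · intro i j
    rw [coeff_scale]
    by_cases h : i + j < p
    · simp [key i j h]
    · rw [← hb, show i + j = p + (i + j - p) by omega, pow_add, mul_assoc]
      exact Ideal.mem_span_singleton.mpr (dvd_mul_right _ _)
  · intro i j h
    rw [coeff_scale, show i + j = 2 * p + (i + j - 2 * p) by omega, pow_add, hb2, zero_mul,
      zero_mul]
  · have : coeff (ix 1 (p - 1)) (texpD p * W) = 1 := by
      rw [coeff_mul, Finset.sum_eq_single (ix 1 (p - 1), (0 : Fin 2 →₀ ℕ))]
      · rw [coeff_texpD_one, one_mul, coeff_sum]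
        rw [Finset.sum_eq_single 0]
        · simp
        · intro k _ hk
          obtain ⟨k, rfl⟩ := Nat.exists_eq_succ_of_ne_zero hk
          rw [← constantCoeff_eq, map_pow, constantCoeff_eq, hU0, zero_pow (Nat.succ_ne_zero k)]
        · simp; omega
      · intro x hx hne
        rw [Finset.HasAntidiagonal.mem_antidiagonal] at hx
        have h0 := congrArg (· 0) hx
        have h1 := congrArg (· 1) hx
        simp only [Finsupp.add_apply, ix_zero, ix_one] at h0 h1
        by_cases hx2 : x.2 = 0
        · exact absurd (Prod.ext (by rwa [hx2, add_zero] at hx) hx2) hne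
        · rw [← ix_eq x.1, coeff_texpD_low p _ _ ?_, zero_mul]
          by_contra hc
          apply hx2
          ext a; fin_cases a <;> simp <;> omega
      · intro h; exact absurd (by simp [Finset.HasAntidiagonal.mem_antidiagonal]) h
    rw [coeff_scale, this, map_one, mul_one, ← hb, show 1 + (p - 1) = p by omega]

end Groth.Agent.GaGm
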