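import Groth.Agent.GaGm.SquareZero

/-!
# Extensions of `G_a` by `G_m` split over rings with surjective Frobenius
-/

set_option autoImplicit false
universe u
open MvPolynomial

namespace Groth.Agent.GaGm

lemma IsCoc.constantCoeff_eq_one {S : Type u} [CommRing S] {h : MvPolynomial (Fin 2) S}
    (hh : IsCoc h) : constantCoeff h = 1 := by
  have := congrArg constantCoeff hh.norm
  rw [map_aeval, map_one] at this
  simp only [algebraMap_eq, constantCoeff_comp_C] at this
  rw [show (fun i ↦ constantCoeff (![(X 0 : MvPolynomial (Fin 2) S), 0] i)) =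
      fun _ ↦ (0 : S) from by funext i; fin_cases i <;> simp] at this
  simpa using this

lemma coeff_zero_of_cob {S : Type u} [CommRing S] {h : MvPolynomial (Fin 2) S} (hh : IsCoc h)
    {f : Polynomial S} (hf : IsUnit f)
    (e : Polynomial.aeval (X 0 + X 1 : MvPolynomial (Fin 2) S) f =
      Polynomial.aeval (X 0 : MvPolynomial (Fin 2) S) f *
        Polynomial.aeval (X 1 : MvPolynomial (Fin 2) S) f * h) : f.coeff 0 = 1 := by
  have hc : ∀ t : MvPolynomial (Fin 2) S, constantCoeff t = 0 →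
      constantCoeff (Polynomial.aeval t f) = f.coeff 0 := fun t ht ↦ by
    rw [Polynomial.aeval_def, Polynomial.hom_eval₂, ht, Polynomial.eval₂_at_zero,
      algebraMap_eq, constantCoeff_comp_C, RingHom.id_apply]
  have := congrArg constantCoeff e
  rw [map_mul, map_mul, hh.constantCoeff_eq_one, mul_one, hc _ (by simp), hc _ (by simp),
    hc _ (by simp)] at this
  exact (hf.map Polynomial.constantCoeff).mul_left_cancel (this.symm.trans (mul_one _).symm)

variable {R : Type u} [CommRing R] {p : ℕ} [Fact p.Prime] [CharP R p]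

/-- Cocycles congruent to one modulo a nilpotent ideal are coboundaries. -/
lemma isCob_of_nilpotent (hF : ∀ a : R, ∃ b, b ^ p = a) (I : Ideal R) {N : ℕ} (hN : I ^ N = ⊥)
    (r : ℕ) : ∀ k, k + r = N → 1 ≤ k → ∀ h : MvPolynomial (Fin 2) R, IsCoc h →
      h - 1 ∈ (I ^ k).map (C : R →+* MvPolynomial (Fin 2) R) → IsCob h := by
  induction r with
  | zero =>
    intro k hk _ h _ hmem
    rw [add_zero] at hk
    rw [hk, hN, Ideal.map_bot, Ideal.mem_bot, sub_eq_zero] at hmem
    exact hmem ▸ isCob_one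
  | succ r ih =>
    intro k hk hk1 h hh hmem
    let ρ := Ideal.Quotient.mk (I ^ (k + 1))
    have hnil : IsNilpotent (I ^ (k + 1) : Ideal R) := ⟨N, by
      rw [← pow_mul, mul_comm, pow_mul, hN]; exact zero_pow (by omega)⟩
    obtain ⟨M, hM⟩ := hnil
    have hker : ∀ x ∈ I ^ (k + 1), IsNilpotent x := fun x hx ↦ ⟨M, by
      have := Ideal.pow_mem_pow hx M
      rwa [hM, Ideal.zero_eq_bot, Ideal.mem_bot] at this⟩
    have : Nontrivial R := CharP.nontrivial_of_char_ne_one (Fact.out : p.Prime).ne_one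
    have : Nontrivial (R ⧸ I ^ (k + 1)) := Ideal.Quotient.nontrivial_iff.mpr fun e ↦
      not_isNilpotent_one (hker 1 (e ▸ Submodule.mem_top))
    have : CharP (R ⧸ I ^ (k + 1)) p :=
      (CharP.charP_iff_prime_eq_zero (Fact.out : p.Prime)).mpr (by
        rw [← map_natCast ρ, CharP.cast_eq_zero, map_zero])
    have hρ : Function.Surjective ρ := Ideal.Quotient.mk_surjective
    have hF' : ∀ a : R ⧸ I ^ (k + 1), ∃ b, b ^ p = a := fun a ↦ by
      obtain ⟨x, rfl⟩ := hρ a
      obtain ⟨y, hy⟩ := hF x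
      exact ⟨ρ y, by rw [← map_pow, hy]⟩
    have hsq : ∀ x ∈ (I ^ k).map ρ, ∀ y ∈ (I ^ k).map ρ, x * y = 0 := fun x hx y hy ↦ by
      obtain ⟨x, hx', rfl⟩ := (Ideal.mem_map_iff_of_surjective ρ hρ).mp hx
      obtain ⟨y, hy', rfl⟩ := (Ideal.mem_map_iff_of_surjective ρ hρ).mp hy
      rw [← map_mul, Ideal.Quotient.eq_zero_iff_mem]
      have : x * y ∈ I ^ (k + k) := by rw [pow_add]; exact Ideal.mul_mem_mul hx' hy'
      exact Ideal.pow_le_pow_right (by omega) this
    have hh' := hh.map ρ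
    obtain ⟨c, hc⟩ : ∃ c, c = MvPolynomial.map ρ h - 1 := ⟨_, rfl⟩
    have hcm : c ∈ ((I ^ k).map ρ).map
        (C : (R ⧸ I ^ (k + 1)) →+* MvPolynomial (Fin 2) (R ⧸ I ^ (k + 1))) := by
      rw [hc, ← map_one (MvPolynomial.map ρ), ← map_sub, mem_map_C_iff]
      intro m
      rw [coeff_map]
      exact Ideal.mem_map_of_mem ρ (mem_map_C_iff.mp hmem m)
    have hcob : IsCob (MvPolynomial.map ρ h) := by
      have e : MvPolynomial.map ρ h = 1 + c := by rw [hc]; ring
      rw [e]
      refine isCob_of_sqZero hF' hsq (c.support.sup fun m ↦ m 0 + m 1) c hcm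
        (fun i j hij ↦ ?_) (e ▸ hh')
      by_contra hne
      have := Finset.le_sup (f := fun m : Fin 2 →₀ ℕ ↦ m 0 + m 1) (mem_support_iff.mpr hne)
      simp only [ix_zero, ix_one] at this
      omega
    obtain ⟨g, hg, eg⟩ := hcob
    have hg0 : g.coeff 0 = 1 := coeff_zero_of_cob hh' hg eg
    obtain ⟨f₀, hf₀⟩ := Polynomial.map_surjective ρ hρ g
    obtain ⟨f, hfdef⟩ : ∃ f, f = f₀ + Polynomial.C (1 - f₀.coeff 0) := ⟨_, rfl⟩
    have hf0 : f.coeff 0 = 1 := by simp [hfdef]
    have hfmap : f.map ρ = g := by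
      have : ρ (f₀.coeff 0) = 1 := by rw [← Polynomial.coeff_map, hf₀, hg0]
      simp [hfdef, hf₀, this]
    have hfu : IsUnit f := by
      refine Polynomial.isUnit_iff_coeff_isUnit_isNilpotent.mpr ⟨by simp [hf0], fun n hn ↦ ?_⟩
      obtain ⟨m, hm⟩ := (Polynomial.isUnit_iff_coeff_isUnit_isNilpotent.mp hg).2 n hn
      rw [← hfmap, Polynomial.coeff_map, ← map_pow, Ideal.Quotient.eq_zero_iff_mem] at hm
      exact IsNilpotent.of_pow (hker _ hm)
    have hdc := isCoc_dlt hfu hf0
    obtain ⟨k', hk'⟩ : ∃ k', k' = Ring.inverse (dlt f) * h := ⟨_, rfl⟩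
    have hsplit : h = dlt f * k' := by
      rw [hk', ← mul_assoc, Ring.mul_inverse_cancel _ hdc.unit, one_mul]
    have hdmap : MvPolynomial.map ρ (dlt f) = MvPolynomial.map ρ h := by
      have e := congrArg (MvPolynomial.map ρ) (dlt_spec hfu)
      simp only [map_mul, map_aeval_poly, map_add, MvPolynomial.map_X, hfmap] at e
      exact ((hg.map _).mul (hg.map _)).mul_left_cancel (e.symm.trans eg)
    have hk'coc : IsCoc k' := hdc.of_mul (hsplit ▸ hh)
    have hk'mem : k' - 1 ∈ (I ^ (k + 1)).map (C : R →+* MvPolynomial (Fin 2) R) := by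
      rw [mem_map_C_iff]
      intro m
      rw [← Ideal.Quotient.eq_zero_iff_mem, ← coeff_map, map_sub, map_one]
      have e := congrArg (MvPolynomial.map ρ) hsplit
      rw [map_mul, hdmap] at e
      have : MvPolynomial.map ρ k' = 1 :=
        hh'.unit.mul_left_cancel (e.symm.trans (mul_one _).symm)
      rw [this, sub_self, coeff_zero]
    rw [hsplit]
    exact (isCob_dlt hfu).mul (ih (k + 1) (by omega) (by omega) k' hk'coc hk'mem)

/-- Every normalised symmetric invertible cocycle is a coboundary. -/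
theorem isCob_of_isCoc (hF : ∀ a : R, ∃ b, b ^ p = a) {h : MvPolynomial (Fin 2) R}
    (hh : IsCoc h) : IsCob h := by
  classical
  have hu := isUnit_iff.mp hh.unit
  have h00 : coeff 0 h = 1 := IsCoc.constantCoeff_eq_one hh
  let s : Finset R := (h - 1).support.image fun m ↦ coeff m (h - 1)
  have hfg : (Ideal.span (s : Set R)).FG := ⟨s, rfl⟩
  have hle : Ideal.span (s : Set R) ≤ nilradical R := by
    refine Ideal.span_le.mpr fun x hx ↦ ?_
    obtain ⟨m, -, rfl⟩ := Finset.mem_image.mp hx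
    by_cases hm : m = 0
    · simp [hm, coeff_sub, h00]
    · rw [SetLike.mem_coe, mem_nilradical, coeff_sub, coeff_one, if_neg (Ne.symm hm), sub_zero]
      exact hu.2 m hm
  obtain ⟨N, hN⟩ := (Ideal.FG.isNilpotent_iff_le_nilradical hfg).mpr hle
  refine isCob_of_nilpotent hF (Ideal.span (s : Set R)) (N := N + 1)
    (by rw [pow_succ, hN, zero_mul, Ideal.zero_eq_bot]) N 1 (by omega) le_rfl h hh ?_
  rw [pow_one, mem_map_C_iff]
  intro m
  by_cases hm : coeff m (h - 1) = 0
  · rw [hm]; exact zero_mem _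
  · exact Ideal.subset_span (Finset.mem_image.mpr ⟨m, mem_support_iff.mpr hm, rfl⟩)

end Groth.Agent.GaGm
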