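import Groth.Agent.GaGm.Exp

/-!
# Symmetric cocycles congruent to one modulo a square zero ideal are coboundaries
-/

set_option autoImplicit false
universe u
open MvPolynomial

namespace Groth.Agent.GaGm

variable {R : Type u} [CommRing R]

section ideal

variable {J : Ideal R} (hJ : ∀ x ∈ J, ∀ y ∈ J, x * y = 0)

include hJ in
lemma mul_eq_zero_of_mem_map {σ : Type*} {x y : MvPolynomial σ R}
    (hx : x ∈ J.map (C : R →+* MvPolynomial σ R)) (hy : y ∈ J.map (C : R →+* MvPolynomial σ R)) :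
    x * y = 0 := by
  classical
  ext m
  rw [coeff_mul, coeff_zero]
  exact Finset.sum_eq_zero fun z _ ↦ hJ _ (mem_map_C_iff.mp hx _) _ (mem_map_C_iff.mp hy _)

lemma aeval_mem_map {n m : ℕ} (l : Fin n → MvPolynomial (Fin m) R) {q : MvPolynomial (Fin n) R}
    (hq : q ∈ J.map (C : R →+* MvPolynomial (Fin n) R)) :
    aeval l q ∈ J.map (C : R →+* MvPolynomial (Fin m) R) := by
  have h := Ideal.mem_map_of_mem (aeval l : MvPolynomial (Fin n) R →ₐ[R] _).toRingHom hq
  rw [Ideal.map_map] at h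
  have he : (aeval l : MvPolynomial (Fin n) R →ₐ[R] _).toRingHom.comp C =
      (C : R →+* MvPolynomial (Fin m) R) := by
    ext a; simp
  rw [he] at h
  exact h

end ideal

lemma isUnit_natCast {p : ℕ} [CharP R p] (hp : p.Prime) {n : ℕ} (hn : ¬ p ∣ n) :
    IsUnit (n : R) := by
  have : Fact p.Prime := ⟨hp⟩
  have h : (n : ZMod p) ≠ 0 := by rwa [Ne, ZMod.natCast_eq_zero_iff]
  have h2 := h.isUnit.map (ZMod.castHom (dvd_refl p) R)
  rwa [map_natCast] at h2

/-- Polynomials with both derivatives zero are in the image of `expand p`. -/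
lemma exists_expand_eq {p : ℕ} [CharP R p] (hp : p.Prime) (q : MvPolynomial (Fin 2) R)
    (h : ∀ k, pderiv k q = 0) : ∃ q', expand p q' = q := by
  classical
  refine ⟨∑ m ∈ q.support, monomial (m.mapRange (· / p) (Nat.zero_div p)) (coeff m q), ?_⟩
  rw [map_sum]
  conv_rhs => rw [← support_sum_monomial_coeff q]
  refine Finset.sum_congr rfl fun m hm ↦ ?_
  suffices p • m.mapRange (· / p) (Nat.zero_div p) = m by
    rw [expand_monomial, this]
  ext k
  simp only [Finsupp.smul_apply, Finsupp.mapRange_apply, smul_eq_mul]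
  refine Nat.mul_div_cancel' (Classical.not_not.mp fun hnd ↦ (mem_support_iff.mp hm) ?_)
  have hk : m k ≠ 0 := fun h0 ↦ hnd (h0 ▸ dvd_zero p)
  have hm' : m - Finsupp.single k 1 + Finsupp.single k 1 = m :=
    tsub_add_cancel_of_le (Finsupp.single_le_iff.mpr (Nat.one_le_iff_ne_zero.mpr hk))
  have := congrArg (coeff (m - Finsupp.single k 1)) (h k)
  rw [coeff_pderiv, hm', coeff_zero, Finsupp.tsub_apply, Finsupp.single_eq_same,
    ← Nat.cast_add_one, show m k - 1 + 1 = m k by omega] at this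
  exact (IsUnit.mul_left_eq_zero (isUnit_natCast hp hnd)).mp this

lemma coeff_aeval_zero_X (q : MvPolynomial (Fin 2) R) (n : ℕ) :
    (aeval ![(0 : Polynomial R), Polynomial.X] q).coeff n = coeff (ix 0 n) q := by
  induction q using MvPolynomial.induction_on' with
  | add r s hr hs => simp only [map_add, Polynomial.coeff_add, coeff_add, hr, hs]
  | monomial m a =>
    rw [aeval_monomial, ← ix_eq m, coeff_monomial, Finsupp.prod_fintype _ _ (fun _ ↦ pow_zero _),
      Fin.prod_univ_two]
    simp only [ix_inj, ix_zero, ix_one, Matrix.cons_val_zero, Matrix.cons_val_one]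
    by_cases h : m 0 = 0
    · simp [h, Polynomial.coeff_X_pow, eq_comm]
    · simp [h, zero_pow h]

lemma ix_zero_add_single (i j : ℕ) : ix i j + Finsupp.single 0 1 = ix (i + 1) j := by
  ext a; fin_cases a <;> simp

/-- Additive two-cocycle identity, differentiated in the first variable. -/
lemma pderiv_zero_eq {c : MvPolynomial (Fin 2) R}
    (h : aeval ![(X 1 : MvPolynomial (Fin 3) R), X 2] c + aeval ![X 0, X 1 + X 2] c =
      aeval ![(X 0 : MvPolynomial (Fin 3) R) + X 1, X 2] c + aeval ![X 0, X 1] c) :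
    pderiv 0 c = Polynomial.aeval (X 0 + X 1 : MvPolynomial (Fin 2) R)
        (aeval ![(0 : Polynomial R), Polynomial.X] (pderiv 0 c)) -
      Polynomial.aeval (X 0 : MvPolynomial (Fin 2) R)
        (aeval ![(0 : Polynomial R), Polynomial.X] (pderiv 0 c)) := by
  have hd := congrArg (pderiv (0 : Fin 3)) h
  simp only [map_add, pderiv_aeval, Fin.sum_univ_two, Matrix.cons_val_zero, Matrix.cons_val_one,
    pderiv_X_self, pderiv_X_of_ne (show (1 : Fin 3) ≠ 0 by decide),
    pderiv_X_of_ne (show (2 : Fin 3) ≠ 0 by decide), zero_mul, add_zero, one_mul, zero_add] at hd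
  have hs := congrArg (aeval ![(0 : MvPolynomial (Fin 2) R), X 0, X 1]) hd
  have hcomp : ∀ (a b : MvPolynomial (Fin 3) R) (q : MvPolynomial (Fin 2) R),
      aeval ![(0 : MvPolynomial (Fin 2) R), X 0, X 1] (aeval ![a, b] q) =
        aeval ![aeval ![(0 : MvPolynomial (Fin 2) R), X 0, X 1] a,
          aeval ![(0 : MvPolynomial (Fin 2) R), X 0, X 1] b] q := fun a b q ↦ by
    rw [comp_aeval_apply]
    congr 2
    funext i; fin_cases i <;> rfl
  have hpoly : ∀ (t : MvPolynomial (Fin 2) R) (q : MvPolynomial (Fin 2) R),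
      Polynomial.aeval t (aeval ![(0 : Polynomial R), Polynomial.X] q) = aeval ![0, t] q := fun t q ↦ by
    rw [comp_aeval_apply]
    congr 2
    funext i; fin_cases i <;> simp
  simp only [map_add, hcomp, aeval_X, Matrix.cons_val_zero, Matrix.cons_val_one, Matrix.cons_val,
    zero_add] at hs
  rw [hpoly, hpoly, hs]
  have hid : aeval ![(X 0 : MvPolynomial (Fin 2) R), X 1] (pderiv 0 c) = pderiv 0 c := by
    conv_rhs => rw [← aeval_X_left_apply (R := R) (pderiv 0 c)]
    congr 2
    funext i; fin_cases i <;> rfl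
  rw [hid]
  ring

lemma expand_aeval {p : ℕ} {n m : ℕ} (l : Fin n → MvPolynomial (Fin m) R)
    (hl : ∀ i, expand p (l i) = l i ^ p) (q : MvPolynomial (Fin n) R) :
    expand p (aeval l q) = aeval l (expand p q) := by
  induction q using MvPolynomial.induction_on with
  | C a => simp
  | add r s hr hs => simp only [map_add, hr, hs]
  | mul_X r k hr => simp only [map_mul, aeval_X, expand_X, map_pow, hr, hl]

lemma expand_X_add_X {p : ℕ} [CharP R p] (hp : p.Prime) {m : ℕ} (a b : Fin m) :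
    expand p (X a + X b : MvPolynomial (Fin m) R) = (X a + X b) ^ p := by
  have : Fact p.Prime := ⟨hp⟩
  rw [map_add, expand_X, expand_X, add_pow_char]

lemma expand_pair {p m : ℕ} (a b : MvPolynomial (Fin m) R) (ha : expand p a = a ^ p)
    (hb : expand p b = b ^ p) : ∀ i, expand p (![a, b] i) = ![a, b] i ^ p :=
  Fin.forall_fin_two.mpr ⟨ha, hb⟩

lemma IsCoc.of_expand {p : ℕ} [CharP R p] (hp : p.Prime) {h : MvPolynomial (Fin 2) R}
    (hu : IsUnit h) (hh : IsCoc (expand p h)) : IsCoc h := by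
  have hpp := hp.pos
  refine ⟨hu, ?_, ?_, ?_⟩
  · apply expand_injective hpp
    rw [expand_aeval, map_one, hh.norm]
    intro i; fin_cases i
    · simp
    · simp [zero_pow hp.ne_zero]
  · apply expand_injective hpp
    rw [expand_aeval, hh.symm]
    intro i; fin_cases i <;> simp
  · apply expand_injective hpp
    rw [map_mul, map_mul, expand_aeval, expand_aeval, expand_aeval, expand_aeval, hh.coc]
    · exact expand_pair _ _ (expand_X _ _) (expand_X _ _)
    · exact expand_pair _ _ (expand_X_add_X hp _ _) (expand_X _ _)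
    · exact expand_pair _ _ (expand_X _ _) (expand_X_add_X hp _ _)
    · exact expand_pair _ _ (expand_X _ _) (expand_X _ _)

lemma IsCob.expand {p : ℕ} [CharP R p] (hp : p.Prime) {h : MvPolynomial (Fin 2) R}
    (hh : IsCob h) : IsCob (MvPolynomial.expand p h) := by
  obtain ⟨f, hf, e⟩ := hh
  have key : ∀ t : MvPolynomial (Fin 2) R, MvPolynomial.expand p t = t ^ p →
      MvPolynomial.expand p (Polynomial.aeval t f) = Polynomial.aeval t (Polynomial.expand R p f) :=
    fun t ht ↦ by rw [Polynomial.expand_aeval, ← Polynomial.aeval_algHom_apply, ht]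
  refine ⟨Polynomial.expand R p f, hf.map _, ?_⟩
  have := congrArg (MvPolynomial.expand p) e
  rwa [map_mul, map_mul, key _ (expand_X_add_X hp 0 1), key _ (expand_X _ _),
    key _ (expand_X _ _)] at this

/-- The integral of a polynomial whose bad coefficients vanish. -/
lemma exists_integral {p : ℕ} [CharP R p] (hp : p.Prime) (φ : Polynomial R)
    (hφ : ∀ n, p ∣ n + 1 → φ.coeff n = 0) :
    ∃ Φ : Polynomial R, Φ.derivative = φ ∧
      ∀ n, ∃ u : R, Φ.coeff (n + 1) = u * φ.coeff n ∧ Φ.coeff 0 = 0 := by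
  classical
  refine ⟨∑ n ∈ φ.support, Polynomial.monomial (n + 1) (Ring.inverse ((n + 1 : ℕ) : R) * φ.coeff n),
    ?_, fun n ↦ ⟨Ring.inverse ((n + 1 : ℕ) : R), ?_, ?_⟩⟩
  · rw [map_sum]
    conv_rhs => rw [φ.as_sum_support]
    refine Finset.sum_congr rfl fun n _ ↦ ?_
    rw [Polynomial.derivative_monomial, Nat.add_sub_cancel]
    congr 1
    by_cases h : p ∣ n + 1
    · rw [hφ n h, mul_zero, zero_mul]
    · rw [mul_right_comm, Ring.inverse_mul_cancel _ (isUnit_natCast hp h), one_mul]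
  · rw [Polynomial.finsetSum_coeff]
    simp only [Polynomial.coeff_monomial, add_left_inj, Finset.sum_ite_eq',
      Polynomial.mem_support_iff]
    split_ifs with h
    · rfl
    · rw [Classical.not_not.mp h, mul_zero]
  · rw [Polynomial.finsetSum_coeff]
    exact Finset.sum_eq_zero fun m _ ↦ by simp [Polynomial.coeff_monomial]

set_option maxHeartbeats 800000 in
/-- Symmetric cocycles congruent to one modulo a square zero ideal are coboundaries when the
Frobenius is surjective. -/
theorem isCob_of_sqZero {p : ℕ} [Fact p.Prime] [CharP R p] (hF : ∀ a : R, ∃ b, b ^ p = a)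
    {J : Ideal R} (hJ : ∀ x ∈ J, ∀ y ∈ J, x * y = 0) (d : ℕ) :
    ∀ c : MvPolynomial (Fin 2) R, c ∈ J.map (C : R →+* MvPolynomial (Fin 2) R) →
      (∀ i j, d < i + j → coeff (ix i j) c = 0) → IsCoc (1 + c) → IsCob (1 + c) := by
  have hp : p.Prime := Fact.out
  have hp2 := hp.two_le
  induction d using Nat.strong_induction_on with
  | _ d ih =>
  intro c hc hdeg hcoc
  have hcJ : ∀ m, coeff m c ∈ J := mem_map_C_iff.mp hc
  by_cases hd : d ≤ 1
  · have hnorm : aeval ![(X 0 : MvPolynomial (Fin 2) R), 0] c = 0 := by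
      simpa using hcoc.norm
    have hsymm : aeval ![(X 1 : MvPolynomial (Fin 2) R), X 0] c = c := by
      simpa using hcoc.symm
    have h0 : ∀ i, coeff (ix i 0) c = 0 := fun i ↦ by
      have hn : ∀ q : MvPolynomial (Fin 2) R, coeff (ix i 0)
          (aeval ![(X 0 : MvPolynomial (Fin 2) R), 0] q) = coeff (ix i 0) q := fun q ↦ by
        induction q using MvPolynomial.induction_on' with
        | add r s hr hs => simp only [map_add, coeff_add, hr, hs]
        | monomial m a =>
          rw [aeval_monomial, ← ix_eq m, Finsupp.prod_fintype _ _ (fun _ ↦ pow_zero _),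
            Fin.prod_univ_two, coeff_monomial]
          simp only [ix_inj, ix_zero, ix_one, Matrix.cons_val_zero, Matrix.cons_val_one]
          by_cases h : m 1 = 0
          · rw [h, pow_zero, mul_one, MvPolynomial.algebraMap_eq, X_pow_eq_monomial, C_mul_monomial,
              coeff_monomial, show Finsupp.single (0 : Fin 2) (m 0) = ix (m 0) 0 by simp [ix]]
            simp [ix_inj]
          · simp [zero_pow h, h]
      rw [← hn, hnorm, coeff_zero]
    have : c = 0 := by
      ext m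
      rw [← ix_eq m, coeff_zero]
      by_cases h1 : m 1 = 0
      · rw [h1]; exact h0 _
      by_cases hm : d < m 0 + m 1
      · exact hdeg _ _ hm
      have hm0 : m 0 = 0 := by omega
      have hm1 : m 1 = 1 := by omega
      have hsw : aeval ![(X 1 : MvPolynomial (Fin 2) R), X 0] c = rename ![1, 0] c := by
        have : rename ![(1 : Fin 2), 0] = aeval (R := R) ![(X 1 : MvPolynomial (Fin 2) R), X 0] := by
          ext i; fin_cases i <;> simp
        rw [this]
      rw [hm0, hm1, ← hsymm, hsw,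
        show ix 0 1 = Finsupp.mapDomain ![(1 : Fin 2), 0] (ix 1 0) by
          simp [ix, Finsupp.mapDomain_single],
        coeff_rename_mapDomain _ (by decide)]
      exact h0 1
    rw [this, add_zero]
    exact isCob_one
  -- kill the coefficient of `X Y ^ (p - 1)`
  set a := coeff (ix 1 (p - 1)) c with ha
  obtain ⟨b, hb⟩ := hF a
  obtain ⟨g, c₀, hg, hg0, hgc, hc₀a, hc₀deg, hc₀1⟩ := exists_kill hb (hJ _ (hcJ _) _ (hcJ _))
  have hc₀ : c₀ ∈ J.map (C : R →+* MvPolynomial (Fin 2) R) := mem_map_C_iff.mpr fun m ↦ by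
    rw [← ix_eq m]
    exact (Ideal.span_singleton_le_iff_mem _).mpr (hcJ _) (hc₀a _ _)
  obtain ⟨c₁, hc₁def⟩ : ∃ c₁, c₁ = c - c₀ := ⟨_, rfl⟩
  have hc₁ : c₁ ∈ J.map (C : R →+* MvPolynomial (Fin 2) R) := hc₁def ▸ Ideal.sub_mem _ hc hc₀
  have hsplit : 1 + c = dlt g * (1 + c₁) := by
    rw [hgc, mul_add, add_mul, add_mul, mul_one, one_mul, mul_one,
      mul_eq_zero_of_mem_map hJ hc₀ hc₁, hc₁def]
    ring
  rw [hsplit]
  refine (isCob_dlt hg).mul ?_
  have hcoc₁ : IsCoc (1 + c₁) := (isCoc_dlt hg hg0).of_mul (hsplit ▸ hcoc)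
  -- the derivative
  have hadd : aeval ![(X 1 : MvPolynomial (Fin 3) R), X 2] c₁ + aeval ![X 0, X 1 + X 2] c₁ =
      aeval ![(X 0 : MvPolynomial (Fin 3) R) + X 1, X 2] c₁ + aeval ![X 0, X 1] c₁ := by
    have := hcoc₁.coc
    simp only [map_add, map_one, mul_add, add_mul, one_mul, mul_one,
      mul_eq_zero_of_mem_map hJ (aeval_mem_map _ hc₁) (aeval_mem_map _ hc₁), add_zero] at this
    linear_combination this
  have hD := pderiv_zero_eq hadd
  set φ := aeval ![(0 : Polynomial R), Polynomial.X] (pderiv 0 c₁) with hφdef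
  have hφc : ∀ n, φ.coeff n = coeff (ix 1 n) c₁ := fun n ↦ by
    rw [hφdef, coeff_aeval_zero_X, coeff_pderiv, ix_zero_add_single, ix_zero]
    simp
  have hφbad : ∀ n, p ∣ n + 1 → φ.coeff n = 0 := fun n ⟨r, hr⟩ ↦ by
    rcases Nat.lt_or_ge n p with hn | hn
    · have : n = p - 1 := by have := Nat.le_of_dvd (Nat.succ_pos n) ⟨r, hr⟩; omega
      rw [hφc, this, hc₁def, coeff_sub, hc₀1, ← ha, sub_self]
    · have h2 := congrArg (coeff (ix (p - 1) (n - (p - 1)))) hD
      rw [coeff_pderiv, ix_zero, coeff_sub, coeff_aeval_add, coeff_aeval_left,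
        if_neg (by omega), sub_zero, ← Nat.cast_add_one, show p - 1 + 1 = p by omega,
        CharP.cast_eq_zero, mul_zero, show p - 1 + (n - (p - 1)) = n by omega] at h2
      have hch : (n.choose (p - 1) : R) = 1 := by
        suffices n.choose (p - 1) ≡ 1 [MOD p] by
          simpa using (CharP.natCast_eq_natCast R p).mpr this
        have hmod : n % p = p - 1 := by
          obtain ⟨r, rfl⟩ : ∃ r', r = r' + 1 := Nat.exists_eq_add_one.mpr (by
            rcases r with _ | r
            · simp at hr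
            · omega)
          rw [show n = p * r + (p - 1) by rw [Nat.mul_succ] at hr; omega,
            Nat.mul_add_mod, Nat.mod_eq_of_lt (by omega)]
        have := Choose.choose_modEq_choose_mod_mul_choose_div_nat (n := n) (k := p - 1) (p := p)
        rwa [hmod, Nat.mod_eq_of_lt (show p - 1 < p by omega), Nat.div_eq_of_lt (show p - 1 < p by omega),
          Nat.choose_self, Nat.choose_zero_right] at this
      rw [hch, one_mul] at h2
      exact h2.symm
  obtain ⟨Φ, hΦd, hΦc⟩ := exists_integral hp φ hφbad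
  have hΦ0 : Φ.coeff 0 = 0 := (hΦc 0).choose_spec.2
  have hc₁J : ∀ m, coeff m c₁ ∈ J := mem_map_C_iff.mp hc₁
  have hΦJ : ∀ n, Φ.coeff n ∈ J := fun n ↦ by
    rcases n with _ | n
    · rw [hΦ0]; exact zero_mem J
    · obtain ⟨u, hu, -⟩ := hΦc n
      rw [hu, hφc]; exact J.mul_mem_left _ (hc₁J _)
  have hc₁deg : ∀ i j, max d (2 * p - 1) < i + j → coeff (ix i j) c₁ = 0 := fun i j h ↦ by
    rw [hc₁def, coeff_sub, hdeg _ _ (by omega), hc₀deg _ _ (by omega), sub_zero]
  have hΦdeg : ∀ n, max d (2 * p - 1) < n → Φ.coeff n = 0 := fun n hn ↦ by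
    obtain ⟨n, rfl⟩ : ∃ n', n = n' + 1 := ⟨n - 1, by omega⟩
    obtain ⟨u, hu, -⟩ := hΦc n
    rw [hu, hφc, hc₁deg 1 n (by omega), mul_zero]
  set ΦX := Polynomial.aeval (X 0 : MvPolynomial (Fin 2) R) Φ with hΦX
  set ΦY := Polynomial.aeval (X 1 : MvPolynomial (Fin 2) R) Φ with hΦY
  set ΦS := Polynomial.aeval (X 0 + X 1 : MvPolynomial (Fin 2) R) Φ with hΦS
  have hmX : ΦX ∈ J.map (C : R →+* MvPolynomial (Fin 2) R) := mem_map_C_iff.mpr fun m ↦ by
    rw [← ix_eq m, hΦX, coeff_aeval_left]; split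
    · exact hΦJ _
    · exact zero_mem J
  have hmY : ΦY ∈ J.map (C : R →+* MvPolynomial (Fin 2) R) := mem_map_C_iff.mpr fun m ↦ by
    rw [← ix_eq m, hΦY, coeff_aeval_right]; split
    · exact hΦJ _
    · exact zero_mem J
  have hmS : ΦS ∈ J.map (C : R →+* MvPolynomial (Fin 2) R) := mem_map_C_iff.mpr fun m ↦ by
    rw [← ix_eq m, hΦS, coeff_aeval_add]; exact J.mul_mem_left _ (hΦJ _)
  have hδm : ΦS - ΦX - ΦY ∈ J.map (C : R →+* MvPolynomial (Fin 2) R) :=
    Ideal.sub_mem _ (Ideal.sub_mem _ hmS hmX) hmY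
  obtain ⟨q, hqdef⟩ : ∃ q, q = c₁ - (ΦS - ΦX - ΦY) := ⟨_, rfl⟩
  have hq : q ∈ J.map (C : R →+* MvPolynomial (Fin 2) R) := hqdef ▸ Ideal.sub_mem _ hc₁ hδm
  have hf₁ : IsUnit (1 + Φ) := IsNilpotent.isUnit_one_add ⟨2, by
    ext n
    rw [pow_two, Polynomial.coeff_mul, Polynomial.coeff_zero]
    exact Finset.sum_eq_zero fun z _ ↦ hJ _ (hΦJ _) _ (hΦJ _)⟩
  have hdlt : dlt (1 + Φ) = 1 + (ΦS - ΦX - ΦY) := by
    have e := dlt_spec hf₁
    refine (((hf₁.map (Polynomial.aeval (X 0 : MvPolynomial (Fin 2) R))).mul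
      (hf₁.map (Polynomial.aeval (X 1 : MvPolynomial (Fin 2) R)))).mul_left_cancel ?_).symm
    rw [← e]
    simp only [map_add, map_one, ← hΦX, ← hΦY, ← hΦS]
    linear_combination mul_eq_zero_of_mem_map hJ hmX hmY +
      mul_eq_zero_of_mem_map hJ hmX hδm + mul_eq_zero_of_mem_map hJ hmY hδm +
      mul_eq_zero_of_mem_map hJ (Ideal.mul_mem_left _ ΦX hmY) hδm
  have hsplit₁ : 1 + c₁ = dlt (1 + Φ) * (1 + q) := by
    rw [hdlt, mul_add, add_mul, add_mul, mul_one, one_mul, mul_one,
      mul_eq_zero_of_mem_map hJ hδm hq, hqdef]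
    ring
  rw [hsplit₁]
  refine (isCob_dlt hf₁).mul ?_
  have hcocq : IsCoc (1 + q) :=
    (isCoc_dlt hf₁ (by simp [hΦ0])).of_mul (hsplit₁ ▸ hcoc₁)
  have hq0 : pderiv 0 q = 0 := by
    rw [hqdef, hΦX, hΦY, hΦS, map_sub, map_sub, map_sub, Derivation.map_aeval, Derivation.map_aeval,
      Derivation.map_aeval, hΦd, map_add, pderiv_X_self, pderiv_X_of_ne (by decide), hD]
    simp only [smul_eq_mul, add_zero, mul_zero, mul_one]
    ring
  have hq1 : pderiv 1 q = 0 := by
    have hs : aeval ![(X 1 : MvPolynomial (Fin 2) R), X 0] q = q := by simpa using hcocq.symm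
    rw [← hs, pderiv_aeval, Fin.sum_univ_two]
    simp only [Matrix.cons_val_zero, Matrix.cons_val_one, pderiv_X_self,
      pderiv_X_of_ne (show (0 : Fin 2) ≠ 1 by decide), hq0, map_zero, zero_mul, mul_zero, add_zero]
  obtain ⟨q', hq'⟩ := exists_expand_eq hp q fun k ↦ by fin_cases k; exacts [hq0, hq1]
  have hq'c : ∀ i j, coeff (ix i j) q' = coeff (ix (p * i) (p * j)) q := fun i j ↦ by
    rw [← hq', ← coeff_expand_smul p hp.ne_zero q' (ix i j)]
    congr 1
    ext k; fin_cases k <;> simp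
  rw [← hq', ← map_one (MvPolynomial.expand p), ← map_add]
  refine IsCob.expand hp (ih (d - 1) (by omega) q' (mem_map_C_iff.mpr fun m ↦ ?_) (fun i j h ↦ ?_) ?_)
  · rw [← ix_eq m, hq'c]; exact mem_map_C_iff.mp hq _
  · have hpd : 2 * (i + j) ≤ p * i + p * j := by
      rw [← mul_add]; exact Nat.mul_le_mul_right _ hp2
    have hpd' : 2 * p ≤ p * i + p * j := by
      rw [← mul_add, mul_comm 2 p]; exact Nat.mul_le_mul_left _ (by omega)
    rw [hq'c, hqdef, coeff_sub, coeff_sub, coeff_sub, hΦX, hΦY, hΦS, coeff_aeval_add,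
      coeff_aeval_left, coeff_aeval_right, hc₁deg _ _ (by omega), hΦdeg _ (by omega)]
    have hX : (if p * j = 0 then Φ.coeff (p * i) else 0) = 0 := by
      split_ifs with h1
      · exact hΦdeg _ (by omega)
      · rfl
    have hY : (if p * i = 0 then Φ.coeff (p * j) else 0) = 0 := by
      split_ifs with h1
      · exact hΦdeg _ (by omega)
      · rfl
    rw [hX, hY, mul_zero, sub_zero, sub_zero, sub_zero]
  · refine IsCoc.of_expand hp ?_ (by rwa [map_add, map_one, hq'])
    refine IsNilpotent.isUnit_one_add ⟨2, ?_⟩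
    rw [pow_two]
    exact mul_eq_zero_of_mem_map hJ
      (mem_map_C_iff.mpr fun m ↦ by rw [← ix_eq m, hq'c]; exact mem_map_C_iff.mp hq _)
      (mem_map_C_iff.mpr fun m ↦ by rw [← ix_eq m, hq'c]; exact mem_map_C_iff.mp hq _)

end Groth.Agent.GaGm
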